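import Mathlib
import Cfsg.Agent.Blocks.Idempotent
import Cfsg.Agent.Char.Clifford

/-!
Convolution on a finite group: the operations needed for idempotents supported on p-regular
elements.
-/

set_option autoImplicit false

namespace Cfsg.Agent.Fg24.Osima

open scoped ComplexConjugate
open Cfsg.Agent
open Cfsg.Agent.Blocks (conv delta omega)

universe u

variable {G : Type u} [Group G] [Fintype G]

theorem conv_apply (a b : G → ℂ) (z : G) : conv a b z = ∑ g, a g * b (g⁻¹ * z) := rfl

theorem conv_assoc (a b c : G → ℂ) : conv (conv a b) c = conv a (conv b c) := by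
  funext z
  simp only [conv_apply, Finset.sum_mul]
  rw [Finset.sum_comm]
  refine Finset.sum_congr rfl fun h _ => ?_
  rw [Finset.mul_sum]
  refine (Fintype.sum_equiv (Equiv.mulLeft h) _ _ fun k => ?_).symm
  simp [mul_assoc]

theorem conv_sum_left {ι : Type*} (s : Finset ι) (a : ι → G → ℂ) (b : G → ℂ) :
    conv (∑ i ∈ s, a i) b = ∑ i ∈ s, conv (a i) b := by
  funext z
  simp only [conv_apply, Finset.sum_apply, Finset.sum_mul]
  exact Finset.sum_comm

theorem conv_sum_right {ι : Type*} (s : Finset ι) (a : G → ℂ) (b : ι → G → ℂ) :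
    conv a (∑ i ∈ s, b i) = ∑ i ∈ s, conv a (b i) := by
  funext z
  simp only [conv_apply, Finset.sum_apply, Finset.mul_sum]
  exact Finset.sum_comm

theorem conv_zero_right (a : G → ℂ) : conv a (0 : G → ℂ) = 0 := by
  funext z; simp [conv_apply]

theorem conv_smul_left (c : ℂ) (a b : G → ℂ) : conv (c • a) b = c • conv a b := by
  funext z
  simp only [conv_apply, Pi.smul_apply, smul_eq_mul, Finset.mul_sum, mul_assoc]

theorem conv_smul_right (c : ℂ) (a b : G → ℂ) : conv a (c • b) = c • conv a b := by
  funext z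
  simp only [conv_apply, Pi.smul_apply, smul_eq_mul, Finset.mul_sum, mul_left_comm]

/-- The point mass at `x`. -/
noncomputable def dirac (x : G) : G → ℂ :=
  open Classical in fun g => if g = x then 1 else 0

theorem dirac_conv (x : G) (a : G → ℂ) (z : G) : conv (dirac x) a z = a (x⁻¹ * z) := by
  classical
  simp [conv_apply, dirac, ite_mul]

theorem conv_dirac (x : G) (a : G → ℂ) (z : G) : conv a (dirac x) z = a (z * x⁻¹) := by
  classical
  rw [conv_apply, Finset.sum_eq_single (z * x⁻¹)]
  · simp [dirac]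
  · intro g _ hg
    simp only [dirac]
    rw [if_neg fun h => hg (by rw [← h]; simp), mul_zero]
  · simp

theorem delta_eq_dirac : delta G = dirac (1 : G) := by
  funext g
  rw [delta, dirac]

theorem conv_delta (a : G → ℂ) : conv a (delta G) = a := by
  funext z; rw [delta_eq_dirac, conv_dirac, inv_one, mul_one]

theorem delta_conv (a : G → ℂ) : conv (delta G) a = a := by
  funext z; rw [delta_eq_dirac, dirac_conv, inv_one, one_mul]

theorem sum_dirac (a : G → ℂ) : a = ∑ x, a x • dirac x := by
  classical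
  funext g
  simp [dirac, Finset.sum_apply]

/-- A function invariant under conjugation by the support of another commutes with it. -/
theorem conv_comm_of_invariant {f a : G → ℂ} (h : ∀ g, a g ≠ 0 → ∀ x, f (g * x * g⁻¹) = f x) :
    conv f a = conv a f := by
  funext z
  simp only [conv_apply]
  let e : G ≃ G := ⟨fun g => g⁻¹ * z, fun g => z * g⁻¹, fun g => by simp, fun g => by simp⟩
  refine Fintype.sum_equiv e _ _ fun g => ?_
  show f g * a (g⁻¹ * z) = a (g⁻¹ * z) * f ((g⁻¹ * z)⁻¹ * z)
  by_cases ha : a (g⁻¹ * z) = 0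
  · simp [ha]
  · have h1 := h _ ha ((g⁻¹ * z)⁻¹ * g * (g⁻¹ * z))
    rw [show (g⁻¹ * z)⁻¹ * z = (g⁻¹ * z)⁻¹ * g * (g⁻¹ * z) by group, ← h1, mul_comm]
    congr 2
    group

theorem conv_comm_of_class {f : G → ℂ} (hf : Cfsg.IsClassFunction G f) (a : G → ℂ) :
    conv f a = conv a f :=
  conv_comm_of_invariant fun g _ x => hf x g

/-- The adjoint. -/
noncomputable def star' (a : G → ℂ) : G → ℂ := fun g => conj (a g⁻¹)

theorem star_conv (a b : G → ℂ) : star' (conv a b) = conv (star' b) (star' a) := by
  funext z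
  simp only [star', conv_apply, map_sum, map_mul]
  let e : G ≃ G := ⟨fun g => z * g, fun g => z⁻¹ * g, fun g => by simp, fun g => by simp⟩
  refine Fintype.sum_equiv e _ _ fun g => ?_
  show conj (a g) * conj (b (g⁻¹ * z⁻¹)) = conj (b (z * g)⁻¹) * conj (a ((z * g)⁻¹ * z)⁻¹)
  rw [mul_comm, mul_inv_rev, mul_assoc, inv_mul_cancel, mul_one, inv_inv]

/-- The squared norm. -/
noncomputable def nsq (a : G → ℂ) : ℝ := ∑ g, Complex.normSq (a g)

theorem nsq_eq (a : G → ℂ) : (nsq a : ℂ) = conv (star' a) a 1 := by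
  simp only [nsq, Complex.ofReal_sum, conv_apply, star']
  refine Fintype.sum_equiv (Equiv.inv G) _ _ fun g => ?_
  simp [Complex.normSq_eq_conj_mul_self]

theorem eq_zero_of_nsq {a : G → ℂ} (h : nsq a = 0) (g : G) : a g = 0 :=
  Complex.normSq_eq_zero.1
    ((Finset.sum_eq_zero_iff_of_nonneg fun x _ => Complex.normSq_nonneg _).1 h g (Finset.mem_univ g))

/-! ## extension by zero -/

variable (N : Subgroup G) [Fintype N]

theorem ext_zero_of_not_mem (a : N → ℂ) {g : G} (hg : g ∉ N) : Cfsg.extendByZero N a g = 0 :=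
  Char.extendByZero_of_not_mem _ _ hg

theorem conv_ext_left (a : N → ℂ) (b : G → ℂ) (z : G) :
    conv (Cfsg.extendByZero N a) b z = ∑ n : N, a n * b ((n : G)⁻¹ * z) := by
  classical
  rw [conv_apply]
  refine (Finset.sum_of_injOn (fun n : N => (n : G)) (fun _ _ _ _ h => Subtype.ext h)
    (fun _ _ => Finset.mem_univ _) (fun g _ hg => ?_) fun n _ => ?_).symm
  · rw [ext_zero_of_not_mem N a fun h => hg ⟨⟨g, h⟩, Finset.mem_univ _, rfl⟩, zero_mul]
  · rw [Char.extendByZero_coe]

theorem conv_ext_ext (a b : N → ℂ) :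
    conv (Cfsg.extendByZero N a) (Cfsg.extendByZero N b) = Cfsg.extendByZero N (conv a b) := by
  funext z
  rw [conv_ext_left]
  by_cases hz : z ∈ N
  · rw [Char.extendByZero_of_mem _ _ hz]
    exact Finset.sum_congr rfl fun n _ => by
      rw [Char.extendByZero_of_mem _ _ (mul_mem (inv_mem n.2) hz)]
      rfl
  · rw [ext_zero_of_not_mem N _ hz]
    refine Finset.sum_eq_zero fun n _ => ?_
    rw [ext_zero_of_not_mem N b fun h => hz ?_, mul_zero]
    have := mul_mem n.2 h
    simpa using this

theorem ext_delta : Cfsg.extendByZero N (delta N) = delta G := by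
  classical
  funext g
  by_cases hg : g ∈ N
  · rw [Char.extendByZero_of_mem _ _ hg]
    simp [delta]
  · rw [ext_zero_of_not_mem N _ hg]
    have : g ≠ 1 := fun h => hg (h ▸ one_mem N)
    simp [delta, this]

theorem ext_sum {ι : Type*} (s : Finset ι) (a : ι → N → ℂ) :
    Cfsg.extendByZero N (∑ i ∈ s, a i) = ∑ i ∈ s, Cfsg.extendByZero N (a i) := by
  funext g
  by_cases hg : g ∈ N
  · simp [Finset.sum_apply, Char.extendByZero_of_mem _ _ hg]
  · simp [Finset.sum_apply, ext_zero_of_not_mem N _ hg]

/-- Convolution commutes with restriction for functions supported in the subgroup. -/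
theorem conv_res {a b : G → ℂ} (ha : ∀ g, g ∉ N → a g = 0) (z : N) :
    conv (fun n : N => a n) (fun n : N => b n) z = conv a b z := by
  classical
  rw [show a = Cfsg.extendByZero N fun n : N => a n from funext fun g => by
    by_cases hg : g ∈ N
    · rw [Char.extendByZero_of_mem _ _ hg]
    · rw [ext_zero_of_not_mem N _ hg, ha g hg], conv_ext_left]
  simp only [Char.extendByZero_coe]
  exact Finset.sum_congr rfl fun n _ => rfl

end Cfsg.Agent.Fg24.Osima
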