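import Mathlib
import Cfsg.Agent.Fg24.Osima.Algebra
import Cfsg.Agent.ProjExt.Criteria
import Cfsg.Agent.Char.Integral

/-!
The invariant extension of an invariant character of a normal `p'`-subgroup to an overgroup with
`p`-group quotient, and the absorption of translations by its idempotent.
-/

set_option autoImplicit false

namespace Cfsg.Agent.Fg24.Osima

open scoped ComplexConjugate
open Cfsg.Agent
open Cfsg.Agent.Blocks (conv delta omega)

universe u

variable {G : Type u} [Group G] [Fintype G] {p : ℕ}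

theorem det_hom_of_char {χ : G → ℂ} {ν : G →* ℂˣ} (h : Cfsg.detChar χ = fun g => (ν g : ℂ))
    {ν' : G →* ℂˣ} (h' : Cfsg.detChar χ = fun g => (ν' g : ℂ)) : ν = ν' :=
  ProjExt.hom_eq_of_coe (h.symm.trans h')

/-- An invariant extension. -/
theorem exists_invariant_extension (hp : p.Prime) (N M : Subgroup G) [N.Normal] [M.Normal]
    (hNM : N ≤ M) (hcop : (Nat.card N).Coprime p) {k : ℕ} (hrel : N.relIndex M = p ^ k)
    {θ : N → ℂ} (hθ : Cfsg.IsIrrCharacter N θ) (hinv : ∀ g : G, Char.conjFun g θ = θ) :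
    ∃ χ : M → ℂ, Cfsg.IsIrrCharacter M χ ∧ (∀ n : N, χ ⟨n, hNM n.2⟩ = θ n) ∧
      ∀ g : G, Char.conjFun g χ = χ := by
  classical
  set N' := N.subgroupOf M with hN'
  have hN'idx : N'.index = p ^ k := hrel
  let e : N' ≃* N := Subgroup.subgroupOfEquivOfLe hNM
  let θ' : N' → ℂ := fun n => θ (e n)
  have hθ' : Cfsg.IsIrrCharacter N' θ' := (Char.isIrrCharacter_comp_equiv _).2 hθ
  have hinv' : ∀ (g : M) (n : N'),
      θ' ⟨g * n * g⁻¹, (inferInstance : N'.Normal).conj_mem (n : M) n.2 g⟩ = θ' n := fun g n =>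
    congrFun (hinv g) (e n)
  obtain ⟨d, hd0, hd⟩ := Char.IsIrr.degree hθ'
  have hN'card : Nat.card N' = Nat.card N := Nat.card_congr e.toEquiv
  have hdcop : Nat.Coprime N'.index d := by
    rw [hN'idx]
    refine Nat.Coprime.pow_left k ?_
    have := Char.IsIrr.degree_dvd_card hθ' hd
    rw [hN'card] at this
    exact (hcop.coprime_dvd_left this).symm
  obtain ⟨lam, hlam⟩ := ProjExt.exists_detChar_hom (Char.IsIrr.isCharacter hθ')
  have hlamo : orderOf lam ∣ Nat.card N' := by
    refine orderOf_dvd_of_pow_eq_one (MonoidHom.ext fun n => ?_)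
    rw [MonoidHom.pow_apply, ← map_pow, pow_card_eq_one', map_one, MonoidHom.one_apply]
  have hlamcop : Nat.Coprime N'.index (orderOf lam) := by
    rw [hN'idx]
    exact Nat.Coprime.pow_left k (hcop.coprime_dvd_left (hN'card ▸ hlamo)).symm
  have hlaminv : ∀ (g : M) (n : N'),
      lam ⟨g * n * g⁻¹, (inferInstance : N'.Normal).conj_mem (n : M) n.2 g⟩ = lam n := by
    intro g n
    let f : N' →* N' :=
      { toFun := fun m => ⟨g * m * g⁻¹, (inferInstance : N'.Normal).conj_mem (m : M) m.2 g⟩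
        map_one' := by simp
        map_mul' := fun a b => Subtype.ext (by simp [mul_assoc]) }
    have h := ProjExt.detChar_comp (Char.IsIrr.isCharacter hθ') f
    rw [show (fun x => θ' (f x)) = θ' from funext fun x => hinv' g x] at h
    exact Units.ext (((congrFun hlam _).symm.trans (congrFun h n).symm).trans (congrFun hlam n))
  obtain ⟨μ, hμN, hμo, hμu⟩ := ProjExt.exists_ext_of_coprime N' lam
    (ProjExt.orderOf_pos_hom lam) hlaminv hlamcop
  obtain ⟨χ₀, hχ₀, hres₀⟩ := ProjExt.extends_of_det N' hθ' hinv' hd hdcop μ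
    fun n => by rw [hμN]; exact (congrFun hlam n).symm
  obtain ⟨χ, ⟨hχ, hres, hdet⟩, huniq⟩ := ProjExt.exists_unique_det N' hθ' hd hdcop
    (Char.IsIrr.isCharacter hχ₀) hres₀ μ fun n => by rw [hμN]; exact (congrFun hlam n).symm
  refine ⟨χ, hχ, fun n => hres ⟨⟨n, hNM n.2⟩, n.2⟩, fun g => ?_⟩
  refine huniq _ (Char.IsIrr.isCharacter (Char.isIrr_conjFun g hχ)) (fun n => ?_) ?_
  · let m : N := ⟨(n : M), n.2⟩
    let m' : N := ⟨g * (m : G) * g⁻¹, (inferInstance : N.Normal).conj_mem _ m.2 g⟩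
    have h1 : Char.conjFun g χ (n : M) = χ ⟨(m' : G), hNM m'.2⟩ := by
      rw [Char.conjFun_apply]
    rw [h1]
    exact (hres ⟨⟨m', hNM m'.2⟩, m'.2⟩).trans (congrFun (hinv g) m)
  · let f : M →* M :=
      { toFun := fun m => ⟨g * m * g⁻¹, (inferInstance : M.Normal).conj_mem (m : G) m.2 g⟩
        map_one' := by simp
        map_mul' := fun a b => Subtype.ext (by simp [mul_assoc]) }
    have h := ProjExt.detChar_comp (Char.IsIrr.isCharacter hχ) f
    rw [show Char.conjFun g χ = fun x => χ (f x) from funext fun x => by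
      rw [Char.conjFun_apply]; rfl, h, hdet]
    have heq : μ.comp f = μ := by
      refine hμu _ (fun n => ?_) ?_
      · rw [MonoidHom.comp_apply]
        refine Units.ext ?_
        have hn : f (n : M) ∈ N' := (inferInstance : N.Normal).conj_mem _ n.2 g
        have hres' : (fun m : N' => Char.conjFun g χ (m : M)) = θ' := funext fun m => by
          let k' : N := ⟨g * ((m : M) : G) * g⁻¹, (inferInstance : N.Normal).conj_mem _ m.2 g⟩
          rw [Char.conjFun_apply]
          exact (hres ⟨⟨k', hNM k'.2⟩, k'.2⟩).trans (congrFun (hinv g) ⟨(m : M), m.2⟩)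
        have h2 := ProjExt.detChar_comp (Char.IsIrr.isCharacter hχ) (f.comp N'.subtype)
        rw [show (fun m : N' => χ ((f.comp N'.subtype) m)) = θ' from
          funext fun m => by rw [← congrFun hres' m, Char.conjFun_apply]; rfl] at h2
        have h3 := congrFun h2 n
        rw [hdet, hlam] at h3
        exact h3.symm
      · rw [hN'idx]
        refine Nat.Coprime.pow_left k ?_
        refine (hcop.coprime_dvd_left ?_).symm
        rw [← hN'card]
        refine (orderOf_dvd_of_pow_eq_one (MonoidHom.ext fun m => ?_)).trans (hμo ▸ hlamo)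
        rw [MonoidHom.pow_apply, MonoidHom.comp_apply, ← MonoidHom.pow_apply, pow_orderOf_eq_one]
        rfl
    funext x
    exact congrArg (fun u : ℂˣ => (u : ℂ)) (DFunLike.congr_fun heq x)

/-- Averaging over an irreducible representation recovers every operator. -/
theorem sum_trace_smul {K : Type u} [Group K] [Fintype K] {n : ℕ}
    (ρ : Representation ℂ K (Fin n → ℂ)) (hρ : ρ.IsIrreducible) (A : Module.End ℂ (Fin n → ℂ)) :
    (∑ x, LinearMap.trace ℂ _ (A * ρ x⁻¹) • ρ x) = ((Nat.card K : ℂ) / n) • A := by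
  classical
  obtain ⟨hn, -⟩ := Char.isIrreducible_iff.1 hρ
  have hn0 : (n : ℂ) ≠ 0 := by
    have := Module.finrank_pos (R := ℂ) (M := Fin n → ℂ)
    rw [Module.finrank_fin_fun] at this
    exact Nat.cast_ne_zero.2 this.ne'
  -- averaged operators are scalar
  have havg : ∀ B : Module.End ℂ (Fin n → ℂ), (∑ x, ρ x * B * ρ x⁻¹) =
      ((Nat.card K : ℂ) * LinearMap.trace ℂ _ B / n) • (1 : Module.End ℂ (Fin n → ℂ)) := by
    intro B
    have hcomm : ∀ k, (∑ x, ρ x * B * ρ x⁻¹) * ρ k = ρ k * ∑ x, ρ x * B * ρ x⁻¹ := by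
      intro k
      rw [Finset.sum_mul, Finset.mul_sum]
      refine Fintype.sum_equiv (Equiv.mulLeft k⁻¹) _ _ fun x => ?_
      simp [← mul_assoc, ← map_mul]
      simp [mul_assoc, ← map_mul]
    let T : Representation.IntertwiningMap ρ ρ := ⟨∑ x, ρ x * B * ρ x⁻¹, fun k => hcomm k⟩
    obtain ⟨c, hc⟩ :=
      (Representation.IsIrreducible.algebraMap_intertwiningMap_bijective_of_isAlgClosed (k := ℂ)
        (ρ := ρ)).2 T
    have h1 : (∑ x, ρ x * B * ρ x⁻¹) = c • (1 : Module.End ℂ (Fin n → ℂ)) :=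
      (congrArg Representation.IntertwiningMap.toLinearMap hc).symm.trans
        (by simp [Algebra.algebraMap_eq_smul_one]; rfl)
    have h2 := congrArg (LinearMap.trace ℂ (Fin n → ℂ)) h1
    rw [map_sum, map_smul, LinearMap.trace_one, Module.finrank_fin_fun, smul_eq_mul] at h2
    have h3 : ∀ x : K, LinearMap.trace ℂ (Fin n → ℂ) (ρ x * B * ρ x⁻¹) =
        LinearMap.trace ℂ _ B := fun x => by
      rw [LinearMap.trace_mul_comm, ← mul_assoc, ← map_mul, inv_mul_cancel, map_one, one_mul]
    rw [Finset.sum_congr rfl fun x _ => h3 x, Finset.sum_const, Finset.card_univ, nsmul_eq_mul,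
      ← Nat.card_eq_fintype_card] at h2
    rw [h1, h2, mul_div_assoc, div_self hn0, mul_one]
  let b := Pi.basisFun ℂ (Fin n)
  refine LinearMap.ext fun w => ?_
  rw [LinearMap.sum_apply, LinearMap.smul_apply]
  have htr : ∀ T : Module.End ℂ (Fin n → ℂ), LinearMap.trace ℂ _ T = ∑ i, b.coord i (T (b i)) := by
    intro T
    rw [LinearMap.trace_eq_matrix_trace ℂ b, Matrix.trace]
    refine Finset.sum_congr rfl fun i _ => ?_
    rw [Matrix.diag_apply, LinearMap.toMatrix_apply, Module.Basis.coord_apply]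
  simp only [htr, Module.End.mul_apply, LinearMap.smul_apply, Finset.sum_smul, LinearMap.sum_apply]
  rw [Finset.sum_comm]
  have key : ∀ i, ∑ x, b.coord i (A (ρ x⁻¹ (b i))) • ρ x w =
      ((Nat.card K : ℂ) / n * b.coord i (A w)) • b i := by
    intro i
    have h := congrArg (fun T : Module.End ℂ (Fin n → ℂ) => T (b i))
      (havg (LinearMap.smulRight ((b.coord i).comp A) w))
    simp only [LinearMap.sum_apply, Module.End.mul_apply, LinearMap.smulRight_apply,
      LinearMap.comp_apply, map_smul, LinearMap.smul_apply, Module.End.one_apply,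
      LinearMap.trace_smulRight] at h
    rw [h, mul_div_right_comm]
  rw [Finset.sum_congr rfl fun i _ => key i]
  simp only [mul_smul, ← Finset.smul_sum]
  congr 1
  exact b.sum_repr (A w)

/-- Irreducibility depends only on the character. -/
theorem isIrreducible_of_char {K : Type u} [Group K] [Finite K] {m : ℕ}
    (τ : Representation ℂ K (Fin m → ℂ)) (h : Cfsg.IsIrrCharacter K τ.character) :
    τ.IsIrreducible := by
  obtain ⟨d, ρ, hρ, hρc⟩ := h
  have hm : m = d := by
    have h1 := congrFun hρc 1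
    rw [ρ.char_one, τ.char_one, Module.finrank_fin_fun, Module.finrank_fin_fun] at h1
    exact_mod_cast h1.symm
  subst hm
  obtain ⟨u, hu⟩ := ProjExt.exists_intertwining_unit ρ τ hρ hρc.symm
  obtain ⟨hn, hi⟩ := Char.isIrreducible_iff.1 hρ
  refine Char.isIrreducible_iff.2 ⟨hn, fun U hU => ?_⟩
  let e : (Fin m → ℂ) ≃ₗ[ℂ] (Fin m → ℂ) := LinearMap.GeneralLinearGroup.generalLinearEquiv ℂ _ u
  have hsurj : Function.Surjective (e : (Fin m → ℂ) →ₗ[ℂ] (Fin m → ℂ)) := e.surjective
  rcases hi (U.comap (e : (Fin m → ℂ) →ₗ[ℂ] (Fin m → ℂ))) fun k v hv => by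
    show (u : Module.End ℂ (Fin m → ℂ)) (ρ k v) ∈ U
    have h := LinearMap.congr_fun (hu k) v
    rw [Module.End.mul_apply, Module.End.mul_apply] at h
    rw [h]
    exact hU _ _ hv with h1 | h1
  · left
    rw [← Submodule.map_comap_eq_of_surjective hsurj U, h1, Submodule.map_bot]
  · right
    rw [← Submodule.map_comap_eq_of_surjective hsurj U, h1, Submodule.map_top,
      LinearMap.range_eq_top.2 hsurj]

/-- The idempotent of an extension absorbs translations into the normal subgroup. -/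
theorem exists_absorb (N M : Subgroup G) [Fintype N] [Fintype M] (hNM : N ≤ M) {χ : M → ℂ}
    (hχ : Cfsg.IsIrrCharacter M χ)
    (hres : Cfsg.IsIrrCharacter N fun n : N => χ ⟨n, hNM n.2⟩) (z : G → ℂ) (K : ℂ)
    (hz : ∀ m : M, z m = K * χ m⁻¹) (hz0 : ∀ g, g ∉ M → z g = 0) (u : M) :
    ∃ α : G → ℂ, (∀ g, g ∉ N → α g = 0) ∧ conv z (dirac (u : G)) = conv α z := by
  classical
  obtain ⟨n, ρ, hρ, rfl⟩ := hχ
  let ι : N →* M := Subgroup.inclusion hNM
  have hρN : Representation.IsIrreducible (ρ.comp ι : Representation ℂ N (Fin n → ℂ)) :=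
    isIrreducible_of_char _ hres
  let α : N → ℂ := fun x =>
    ((n : ℂ) / Nat.card N) * LinearMap.trace ℂ _ (ρ u * ρ (ι x⁻¹))
  refine ⟨Cfsg.extendByZero N α, fun g hg => ext_zero_of_not_mem N _ hg, funext fun g => ?_⟩
  rw [conv_dirac, conv_ext_left]
  by_cases hg : g ∈ M
  swap
  · rw [hz0 _ fun h => hg (by simpa using mul_mem h u.2)]
    refine (Finset.sum_eq_zero fun x _ => ?_).symm
    rw [hz0 _ fun h => hg (by simpa using mul_mem (hNM x.2) h), mul_zero]
  obtain ⟨hn, -⟩ := Char.isIrreducible_iff.1 hρ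
  have hn0 : (n : ℂ) ≠ 0 := by
    have := Module.finrank_pos (R := ℂ) (M := Fin n → ℂ)
    rw [Module.finrank_fin_fun] at this
    exact Nat.cast_ne_zero.2 this.ne'
  have hN0 : (Nat.card N : ℂ) ≠ 0 := Nat.cast_ne_zero.2 Nat.card_pos.ne'
  have h1 := sum_trace_smul (ρ.comp ι : Representation ℂ N (Fin n → ℂ)) hρN (ρ u)
  have h2 : ρ u = ∑ x, α x • ρ (ι x) := by
    have h3 := congrArg (fun T => ((n : ℂ) / Nat.card N) • T) h1
    simp only [Finset.smul_sum, smul_smul] at h3
    rw [show (n : ℂ) / Nat.card N * ((Nat.card N : ℂ) / n) = 1 by field_simp, one_smul] at h3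
    exact h3.symm
  set m : M := ⟨g, hg⟩
  rw [show g * (u : G)⁻¹ = ((m * u⁻¹ : M) : G) from rfl, hz]
  have h4 : ∀ x : N, z ((x : G)⁻¹ * g) = K * ρ.character ((ι x)⁻¹ * m)⁻¹ := fun x =>
    hz ((ι x)⁻¹ * m)
  rw [Finset.sum_congr rfl fun x _ => by rw [h4 x]]
  simp only [Representation.character, mul_inv_rev, inv_inv, map_mul]
  rw [h2, Finset.sum_mul, map_sum, Finset.mul_sum]
  refine Finset.sum_congr rfl fun x _ => ?_
  rw [smul_mul_assoc, map_smul, LinearMap.trace_mul_comm, smul_eq_mul]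
  ring

end Cfsg.Agent.Fg24.Osima
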