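import Mathlib
import Cfsg.Agent.Fg24.Osima.Extension
import Cfsg.Agent.Coprime.Basic
import Cfsg.Agent.Blocks.Projection

/-!
The norm argument: a central idempotent supported on p-regular elements, lying over an invariant
character of a normal p-complement N of M, vanishes at cosets moved by M.
-/

set_option autoImplicit false

namespace Cfsg.Agent.Fg24.Osima

open scoped ComplexConjugate Pointwise
open Cfsg.Agent
open Cfsg.Agent.Blocks (conv delta omega)

universe u

variable {G : Type u} [Group G] [Fintype G] {p : ℕ}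

theorem star_blockCoeff (B : Set (Cfsg.IrrCharacter G)) :
    star' (Cfsg.blockCoeff B) = Cfsg.blockCoeff B := by
  classical
  funext g
  simp only [star', Blocks.blockCoeff_eq_sum, map_mul, map_inv₀, map_natCast, map_sum,
    apply_ite conj, map_zero]
  congr 1
  refine Finset.sum_congr rfl fun χ _ => ?_
  split_ifs with h
  · rw [Complex.conj_conj, Char.IsChar.inv_eq_conj (Char.IsIrr.isCharacter χ.2)]
    obtain ⟨d, hd⟩ := Char.IsChar.degree (Char.IsIrr.isCharacter χ.2)
    rw [hd, map_natCast]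
  · rfl

/-- A central idempotent is the block coefficient function of a set of characters. -/
theorem exists_blockCoeff {c : G → ℂ} (hc : Cfsg.IsClassFunction G c) (h : conv c c = c) :
    ∃ B : Set (Cfsg.IrrCharacter G), c = Cfsg.blockCoeff B := by
  classical
  refine ⟨{χ | omega (χ : G → ℂ) c = 1}, Blocks.eq_blockCoeff hc _ fun χ => ?_⟩
  by_cases h1 : omega (χ : G → ℂ) c = 1
  · rw [if_pos (show χ ∈ {χ : Cfsg.IrrCharacter G | omega (χ : G → ℂ) c = 1} from h1)]; exact h1
  · rw [if_neg (show χ ∉ {χ : Cfsg.IrrCharacter G | omega (χ : G → ℂ) c = 1} from h1)]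
    have h2 := congrArg (omega (χ : G → ℂ)) h
    rw [Blocks.omega_conv χ.2 hc hc] at h2
    exact (mul_eq_zero.1 (show omega (χ : G → ℂ) c * (omega (χ : G → ℂ) c - 1) = 0 by
      rw [mul_sub, h2, mul_one, sub_self])).resolve_right (sub_ne_zero.2 h1)

theorem nsq_eq_self {c : G → ℂ} (hs : star' c = c) (h : conv c c = c) : (nsq c : ℂ) = c 1 := by
  rw [nsq_eq, hs, h]

theorem ext_star (H : Subgroup G) (a : H → ℂ) (g : G) :
    star' (Cfsg.extendByZero H a) g = Cfsg.extendByZero H (star' a) g := by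
  by_cases hg : g ∈ H
  · rw [star', Char.extendByZero_of_mem _ _ (inv_mem hg), Char.extendByZero_of_mem _ _ hg]
    rfl
  · rw [star', ext_zero_of_not_mem' H a fun h => hg (by simpa using inv_mem h),
      ext_zero_of_not_mem' H _ hg, map_zero]
where
  ext_zero_of_not_mem' (H : Subgroup G) (a : H → ℂ) {g : G} (hg : g ∉ H) :
      Cfsg.extendByZero H a g = 0 := Char.extendByZero_of_not_mem _ _ hg

/-- The function of a normal subgroup extended by zero is a class function when it is invariant. -/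
theorem isClass_ext (H : Subgroup G) [H.Normal] {a : H → ℂ}
    (hinv : ∀ g : G, Char.conjFun g a = a) : Cfsg.IsClassFunction G (Cfsg.extendByZero H a) := by
  intro x g
  by_cases hx : x ∈ H
  · rw [Char.extendByZero_of_mem _ _ ((inferInstance : H.Normal).conj_mem x hx g),
      Char.extendByZero_of_mem _ _ hx]
    have h := congrFun (hinv g) ⟨x, hx⟩
    rw [Char.conjFun_apply] at h
    exact h
  · rw [Char.extendByZero_of_not_mem _ _ hx, Char.extendByZero_of_not_mem]
    intro h
    apply hx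
    have := (inferInstance : H.Normal).conj_mem _ h g⁻¹
    simpa [mul_assoc] using this

/-- The idempotent of an irreducible character of a subgroup. -/
noncomputable def charIdem (H : Subgroup G) (θ : Cfsg.IrrCharacter H) : G → ℂ :=
  Cfsg.extendByZero H (Cfsg.blockCoeff {θ})

theorem blockCoeff_singleton (θ : Cfsg.IrrCharacter G) (g : G) :
    Cfsg.blockCoeff {θ} g = (Nat.card G : ℂ)⁻¹ * ((θ : G → ℂ) 1 * conj ((θ : G → ℂ) g)) := by
  rw [Cfsg.blockCoeff, finsum_mem_singleton]

theorem charIdem_conv_self (H : Subgroup G) (θ : Cfsg.IrrCharacter H) :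
    conv (charIdem H θ) (charIdem H θ) = charIdem H θ := by
  have := Fintype.ofFinite H
  rw [charIdem, conv_ext_ext, Blocks.blockCoeff_conv]

theorem charIdem_star (H : Subgroup G) (θ : Cfsg.IrrCharacter H) :
    star' (charIdem H θ) = charIdem H θ := by
  have := Fintype.ofFinite H
  funext g
  rw [charIdem, ext_star, star_blockCoeff]

/-- `p`-regular elements of a coset of a normal p-subgroup are conjugate. -/
theorem exists_conj_regular {K : Type u} [Group K] [Finite K] (hp : p.Prime) (Q : Subgroup K)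
    [Q.Normal] (hQ : IsPGroup p Q) {a b : K} (ha : ¬ p ∣ orderOf a) (hb : ¬ p ∣ orderOf b)
    (hab : a⁻¹ * b ∈ Q) : ∃ k ∈ Q, k * a * k⁻¹ = b := by
  haveI := Fact.mk hp
  obtain ⟨n, hn⟩ := IsPGroup.iff_card.1 hQ
  have hcop : ∀ c : K, ¬ p ∣ orderOf c → (orderOf c).Coprime (Nat.card Q) := fun c hc => by
    rw [hn]
    exact Nat.Coprime.pow_right n ((hp.coprime_iff_not_dvd.2 hc).symm)
  have hmk : (QuotientGroup.mk a : K ⧸ Q) = QuotientGroup.mk b := QuotientGroup.eq.2 hab
  have hord : ∀ c : K, ¬ p ∣ orderOf c →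
      orderOf (QuotientGroup.mk c : K ⧸ Q) = orderOf c := fun c hc => by
    refine Nat.dvd_antisymm (orderOf_map_dvd (QuotientGroup.mk' Q) c) ?_
    have h1 : c ^ orderOf (QuotientGroup.mk c : K ⧸ Q) ∈ Q := by
      rw [← QuotientGroup.eq_one_iff, QuotientGroup.mk_pow, pow_orderOf_eq_one]
    have h2 : orderOf c ∣ orderOf (QuotientGroup.mk c : K ⧸ Q) * Nat.card Q := by
      refine orderOf_dvd_of_pow_eq_one ?_
      rw [pow_mul]
      exact orderOf_dvd_iff_pow_eq_one.1 (Subgroup.orderOf_dvd_natCard Q h1)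
    exact (hcop c hc).dvd_of_dvd_mul_right h2
  have hcard : Nat.card (Subgroup.zpowers a) = Nat.card (Subgroup.zpowers b) := by
    rw [Nat.card_zpowers, Nat.card_zpowers, ← hord a ha, hmk, hord b hb]
  obtain ⟨k, hk, hkA⟩ := Coprime.exists_conj_eq (A := Subgroup.zpowers b) (K := Q)
    (B := Subgroup.zpowers a)
    (by rw [Subgroup.normalizer_eq_top_iff.2 inferInstance]; exact le_top)
    (by rw [Nat.card_zpowers]; exact hcop b hb)
    (Or.inl inferInstance)
    (by
      rw [Subgroup.zpowers_le]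
      have : b * (a⁻¹ * b)⁻¹ ∈ Q ⊔ Subgroup.zpowers b :=
        mul_mem (Subgroup.mem_sup_right (Subgroup.mem_zpowers b)) (Subgroup.mem_sup_left (inv_mem hab))
      simpa using this)
    hcard
  have hmem : k * a * k⁻¹ ∈ Subgroup.zpowers b := by
    rw [← hkA, Subgroup.mem_pointwise_smul_iff_inv_smul_mem]
    simp [MulAut.smul_def, mul_assoc]
  refine ⟨k, hk, ?_⟩
  have hq : (k * a * k⁻¹) * b⁻¹ ∈ Q := by
    rw [← QuotientGroup.eq_one_iff, QuotientGroup.mk_mul, QuotientGroup.mk_mul, QuotientGroup.mk_mul,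
      QuotientGroup.mk_inv, QuotientGroup.mk_inv, (QuotientGroup.eq_one_iff k).2 hk, hmk]
    simp
  obtain ⟨i, hi⟩ := mul_mem hmem (inv_mem (Subgroup.mem_zpowers b))
  have h1 : (k * a * k⁻¹ * b⁻¹) = 1 := by
    rw [← orderOf_eq_one_iff]
    refine Nat.eq_one_of_dvd_coprimes (hcop b hb) ?_ (Subgroup.orderOf_dvd_natCard Q hq)
    refine orderOf_dvd_of_pow_eq_one ?_
    rw [← hi]
    show (b ^ i) ^ orderOf b = 1
    rw [← zpow_natCast, ← zpow_mul, mul_comm, zpow_mul, zpow_natCast, pow_orderOf_eq_one, one_zpow]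
  exact mul_inv_eq_one.1 h1

/-- p-regularity only depends on the image modulo a normal p'-subgroup. -/
theorem regular_mk (hp : p.Prime) (N : Subgroup G) [N.Normal] (hcop : (Nat.card N).Coprime p)
    (g : G) : p ∣ orderOf (QuotientGroup.mk g : G ⧸ N) ↔ p ∣ orderOf g := by
  refine ⟨fun h => h.trans (orderOf_map_dvd (QuotientGroup.mk' N) g), fun h => ?_⟩
  have h1 : g ^ orderOf (QuotientGroup.mk g : G ⧸ N) ∈ N := by
    rw [← QuotientGroup.eq_one_iff, QuotientGroup.mk_pow, pow_orderOf_eq_one]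
  have h2 : orderOf g ∣ orderOf (QuotientGroup.mk g : G ⧸ N) * Nat.card N := by
    refine orderOf_dvd_of_pow_eq_one ?_
    rw [pow_mul]
    exact orderOf_dvd_iff_pow_eq_one.1 (Subgroup.orderOf_dvd_natCard N h1)
  exact ((hp.dvd_mul).1 (h.trans h2)).resolve_right fun h' =>
    hp.one_lt.ne' (Nat.eq_one_of_dvd_coprimes hcop h' dvd_rfl)

theorem sum_comp (N : Subgroup G) [N.Normal] [Fintype (G ⧸ N)] [DecidableEq (G ⧸ N)] (d : G → ℂ) :
    (∑ a : G ⧸ N, fun g : G => if (QuotientGroup.mk g : G ⧸ N) = a then d g else 0) = d := by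
  funext g
  simp [Finset.sum_apply]

theorem eq_const_of_sq_sum {ι : Type*} (s : Finset ι) (f : ι → ℂ) (v : ℂ) (hf : ∀ i ∈ s, f i = v) :
    Complex.normSq (∑ i ∈ s, f i) = (s.card : ℝ) * ∑ i ∈ s, Complex.normSq (f i) := by
  have h2 : ∑ i ∈ s, Complex.normSq (f i) = ∑ _i ∈ s, Complex.normSq v :=
    Finset.sum_congr rfl fun i hi => by rw [hf i hi]
  rw [Finset.sum_congr rfl hf, h2, Finset.sum_const, Finset.sum_const, nsmul_eq_mul, nsmul_eq_mul,
    map_mul, Complex.normSq_natCast, mul_assoc]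

/-- **Main step**: the idempotent vanishes at elements not commuting with `M` modulo `N`. -/
theorem vanish (hp : p.Prime) (N M : Subgroup G) [N.Normal] [M.Normal] [Fintype N] (hNM : N ≤ M)
    (hcop : (Nat.card N).Coprime p) {k : ℕ} (hrel : N.relIndex M = p ^ k)
    (θ : Cfsg.IrrCharacter N) (hinv : ∀ g : G, Char.conjFun g (θ : N → ℂ) = (θ : N → ℂ))
    {d : G → ℂ} (hdc : Cfsg.IsClassFunction G d) (hdd : conv d d = d)
    (hdv : ∀ g : G, p ∣ orderOf g → d g = 0) (hde : conv d (charIdem N θ) = d)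
    {g₀ : G} (hg : d g₀ ≠ 0) {u₀ : G} (hu : u₀ ∈ M) : g₀⁻¹ * (u₀ * g₀ * u₀⁻¹) ∈ N := by
  classical
  have := Fintype.ofFinite M
  have := Fintype.ofFinite (G ⧸ N)
  obtain ⟨χ, hχ, hres, hχinv⟩ := exists_invariant_extension hp N M hNM hcop hrel θ.2 hinv
  set z := charIdem M ⟨χ, hχ⟩ with hzdef
  set η := charIdem N θ with hηdef
  have hN0 : (Nat.card N : ℂ) ≠ 0 := Nat.cast_ne_zero.2 Nat.card_pos.ne'
  have hM0 : (Nat.card M : ℂ) ≠ 0 := Nat.cast_ne_zero.2 Nat.card_pos.ne'
  have hcardM : Nat.card M = Nat.card N * p ^ k := by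
    rw [← hrel, ← Subgroup.relIndex_bot_left M, ← Subgroup.relIndex_mul_relIndex ⊥ N M bot_le hNM,
      Subgroup.relIndex_bot_left]
  set q : ℝ := ((p ^ k : ℕ) : ℝ) with hq
  have hqpos : 0 < q := by rw [hq]; exact_mod_cast pow_pos hp.pos k
  have hχ1 : χ 1 = (θ : N → ℂ) 1 := hres 1
  have hzc : Cfsg.IsClassFunction G z := by
    refine isClass_ext M fun g => funext fun m => ?_
    have h1 := congrFun (hχinv g) m
    rw [Char.conjFun_apply] at h1 ⊢
    simp only [blockCoeff_singleton, h1]
  have hzz : conv z z = z := charIdem_conv_self M _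
  have hzs : star' z = z := charIdem_star M _
  have hzM : ∀ m : M, z m = (Nat.card M : ℂ)⁻¹ * χ 1 * χ m⁻¹ := fun m => by
    rw [hzdef, charIdem, Char.extendByZero_coe, blockCoeff_singleton,
      Char.IsChar.inv_eq_conj (Char.IsIrr.isCharacter hχ), mul_assoc]
  have hz0 : ∀ g, g ∉ M → z g = 0 := fun g hg' => ext_zero_of_not_mem M _ hg'
  have hzN : ∀ n : N, z n = ((q : ℂ))⁻¹ * η n := fun n => by
    rw [hηdef, charIdem, Char.extendByZero_coe, blockCoeff_singleton,
      show z (n : G) = z ((⟨n, hNM n.2⟩ : M) : G) from rfl, hzM,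
      Char.IsChar.inv_eq_conj (Char.IsIrr.isCharacter hχ), hres, hχ1, hcardM, hq]
    push_cast
    rw [mul_inv]
    ring
  -- pairing of a function on `N` with `z`
  have hpair : ∀ w : G → ℂ, (∀ g, g ∉ N → ¬ p ∣ orderOf g → w g ≠ 0 → g ∉ M) →
      (∀ g, p ∣ orderOf g → w g = 0) →
      conv w z 1 = (q : ℂ)⁻¹ * conv w η 1 := by
    intro w hw hwv
    simp only [conv_apply, mul_one, Finset.mul_sum]
    refine Finset.sum_congr rfl fun g _ => ?_
    by_cases hgN : g ∈ N
    · rw [show z g⁻¹ = z ((⟨g⁻¹, inv_mem hgN⟩ : N) : G) from rfl, hzN]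
      ring
    · rw [hηdef, charIdem, ext_zero_of_not_mem N _ (fun h => hgN (by simpa using inv_mem h)),
        mul_zero, mul_zero]
      by_cases hw0 : w g = 0
      · rw [hw0, zero_mul]
      by_cases hreg : p ∣ orderOf g
      · exact absurd (hwv g hreg) hw0
      rw [hz0 _ (fun h => hw g hgN hreg hw0 (by simpa using inv_mem h)), mul_zero]
  have hMreg : ∀ g ∈ M, ¬ p ∣ orderOf g → g ∈ N := by
    intro g hgM hreg
    have h1 : ¬ p ∣ orderOf (QuotientGroup.mk g : G ⧸ N) := fun h => hreg ((regular_mk hp N hcop g).1 h)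
    have h2 : (⟨g, hgM⟩ : M) ^ p ^ k ∈ N.subgroupOf M := by
      rw [← hrel, Subgroup.relIndex]; exact Subgroup.pow_index_mem _ _
    rw [Subgroup.mem_subgroupOf] at h2
    have h3 : orderOf (QuotientGroup.mk g : G ⧸ N) ∣ p ^ k := by
      refine orderOf_dvd_of_pow_eq_one ?_
      rw [← QuotientGroup.mk_pow, QuotientGroup.eq_one_iff]
      simpa using h2
    rw [← QuotientGroup.eq_one_iff, ← orderOf_eq_one_iff]
    obtain ⟨i, -, hi⟩ := (Nat.dvd_prime_pow hp).1 h3
    cases i with
    | zero => simpa using hi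
    | succ i => exact absurd (hi ▸ dvd_pow_self p (Nat.succ_ne_zero i)) h1
  have hds : star' d = d := by
    obtain ⟨B, hB⟩ := exists_blockCoeff hdc hdd
    rw [hB, star_blockCoeff]
  -- the norm of the projection
  set x := conv d z with hx
  have hxx : conv x x = x := by
    rw [hx, conv_assoc, ← conv_assoc z d z, conv_comm_of_class hzc d, conv_assoc, hzz,
      ← conv_assoc, hdd]
  have hxs : star' x = x := by
    rw [hx, star_conv, hzs, hds, conv_comm_of_class hzc]
  have hnx : (nsq x : ℂ) = (q : ℂ)⁻¹ * (nsq d : ℂ) := by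
    rw [nsq_eq_self hxs hxx, nsq_eq_self hds hdd, hx,
      hpair d (fun g hgN hreg _ hgM => hgN (hMreg g hgM hreg)) hdv, hde]
  -- the components
  let cmp : G ⧸ N → G → ℂ := fun a g => if (QuotientGroup.mk g : G ⧸ N) = a then d g else 0
  let X : G ⧸ N → G → ℂ := fun a => conv (cmp a) z
  have hcmpN : ∀ a (n : G), n ∈ N → ∀ y, cmp a (n * y * n⁻¹) = cmp a y := by
    intro a n hn y
    simp only [cmp, hdc y n]
    rw [QuotientGroup.mk_mul, QuotientGroup.mk_mul, QuotientGroup.mk_inv,
      (QuotientGroup.eq_one_iff n).2 hn, one_mul, inv_one, mul_one]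
  have hcmpη : ∀ a, conv (cmp a) η = cmp a := by
    intro a
    funext g
    have hstep : conv (cmp a) η g =
        if (QuotientGroup.mk g : G ⧸ N) = a then conv d η g else 0 := by
      simp only [conv_apply]
      split_ifs with hga
      · refine Finset.sum_congr rfl fun h _ => ?_
        by_cases hh : h⁻¹ * g ∈ N
        · rw [show cmp a h = d h from if_pos (((QuotientGroup.eq).2 hh).trans hga)]
        · rw [hηdef, charIdem, ext_zero_of_not_mem N _ hh, mul_zero, mul_zero]
      · refine Finset.sum_eq_zero fun h _ => ?_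
        by_cases hh : h⁻¹ * g ∈ N
        · rw [show cmp a h = 0 from if_neg fun e => hga (((QuotientGroup.eq).2 hh).symm.trans e),
            zero_mul]
        · rw [hηdef, charIdem, ext_zero_of_not_mem N _ hh, mul_zero]
    rw [hstep, hde]
  have hXn : ∀ a, (nsq (X a) : ℂ) = (q : ℂ)⁻¹ * (nsq (cmp a) : ℂ) := by
    intro a
    have hsupp : ∀ g, conv (star' (cmp a)) (cmp a) g ≠ 0 → g ∈ N := by
      intro g hg'
      rw [conv_apply] at hg'
      obtain ⟨h, -, hh⟩ := Finset.exists_ne_zero_of_sum_ne_zero hg'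
      simp only [star', ne_eq, mul_eq_zero, not_or, cmp] at hh
      obtain ⟨hh1, hh2⟩ := hh
      rw [map_eq_zero, ite_eq_right_iff, Classical.not_imp] at hh1
      rw [ite_eq_right_iff, Classical.not_imp] at hh2
      have := hh1.1.trans hh2.1.symm
      rw [QuotientGroup.eq] at this
      simpa [mul_assoc] using this
    rw [nsq_eq (X a), nsq_eq (cmp a)]
    show conv (star' (conv (cmp a) z)) (conv (cmp a) z) 1 = _
    rw [star_conv, hzs, conv_assoc, ← conv_assoc (star' (cmp a)), conv_comm_of_class hzc,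
      conv_assoc, hzz, hpair]
    · rw [conv_assoc, hcmpη]
    · exact fun g hgN _ h0 => absurd (hsupp g h0) hgN
    · intro g hsing
      by_contra h0
      have hgN := hsupp g h0
      exact hp.one_lt.ne' (Nat.eq_one_of_dvd_coprimes hcop
        (hsing.trans (Subgroup.orderOf_dvd_natCard N hgN)) dvd_rfl)
  -- conjugate components give the same projection
  have hXeq : ∀ a : G ⧸ N, ∀ u : G, u ∈ M →
      X ((u : G ⧸ N) * a * (u : G ⧸ N)⁻¹) = X a := by
    intro a u hu'
    obtain ⟨α, hα0, hα⟩ := exists_absorb N M hNM hχ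
      (by rw [show (fun n : N => χ ⟨n, hNM n.2⟩) = (θ : N → ℂ) from funext hres]; exact θ.2)
      z _ hzM hz0 (⟨u⁻¹, inv_mem hu'⟩ : M)
    have hcomm : conv (cmp a) α = conv α (cmp a) :=
      conv_comm_of_invariant fun g hg' => hcmpN a g (by_contra fun h => hg' (hα0 g h))
    have hconj : cmp ((u : G ⧸ N) * a * (u : G ⧸ N)⁻¹) =
        conv (dirac u) (conv (cmp a) (dirac u⁻¹)) := by
      funext g
      rw [dirac_conv, conv_dirac, inv_inv]
      have h1 : d (u⁻¹ * g * u) = d g := by simpa using hdc g u⁻¹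
      simp only [cmp, h1]
      refine if_congr ?_ rfl rfl
      rw [QuotientGroup.mk_mul, QuotientGroup.mk_mul, QuotientGroup.mk_inv]
      constructor
      · intro h; rw [h]; group
      · intro h; rw [← h]; group
    show conv (cmp _) z = conv (cmp a) z
    rw [hconj, conv_assoc, conv_assoc (cmp a), ← conv_comm_of_class hzc (dirac u⁻¹)]
    have hα' : conv z (dirac u⁻¹) = conv α z := hα
    rw [hα', ← conv_assoc (cmp a), hcomm, conv_assoc α, ← conv_comm_of_class hzc (cmp a),
      ← conv_assoc α, ← hα', ← conv_assoc (dirac u), ← conv_assoc (dirac u),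
      ← conv_comm_of_class hzc (dirac u), conv_assoc z (dirac u)]
    have hone : conv (dirac u) (dirac u⁻¹) = delta G := by
      funext g
      rw [dirac_conv, delta_eq_dirac]
      simp only [dirac]
      exact if_congr ⟨fun h => by rw [inv_mul_eq_iff_eq_mul, mul_inv_cancel] at h; exact h,
        fun h => by rw [h, mul_one]⟩ rfl rfl
    rw [hone, conv_delta]
  -- pointwise comparison
  let mM : G ⧸ N → G ⧸ M := QuotientGroup.map N M (MonoidHom.id G) (fun n hn => hNM hn)
  let R : G → Finset (G ⧸ N) := fun g =>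
    Finset.univ.filter fun a => ¬ p ∣ orderOf a ∧ mM a = (QuotientGroup.mk g : G ⧸ M)
  have hXsupp : ∀ g a, X a g ≠ 0 → a ∈ R g := by
    intro g a ha
    simp only [X, conv_apply] at ha
    obtain ⟨h, -, hh⟩ := Finset.exists_ne_zero_of_sum_ne_zero ha
    rw [ne_eq, mul_eq_zero, not_or] at hh
    obtain ⟨hh1, hh2⟩ := hh
    have hhM : h⁻¹ * g ∈ M := by_contra fun hn => hh2 (hz0 _ hn)
    simp only [cmp, ite_eq_right_iff, Classical.not_imp] at hh1
    obtain ⟨rfl, hdh⟩ := hh1
    refine Finset.mem_filter.2 ⟨Finset.mem_univ _, fun hd' => hdh (hdv h ?_), ?_⟩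
    · exact (regular_mk hp N hcop h).1 hd'
    · show (QuotientGroup.mk h : G ⧸ M) = _
      exact QuotientGroup.eq.2 hhM
  set Q := M.map (QuotientGroup.mk' N) with hQ
  haveI : Q.Normal := (inferInstance : M.Normal).map _ (QuotientGroup.mk'_surjective N)
  have hQp : IsPGroup p Q := by
    rintro ⟨y, m, hm, rfl⟩
    refine ⟨k, Subtype.ext ?_⟩
    have h2 : (⟨m, hm⟩ : M) ^ p ^ k ∈ N.subgroupOf M := by
      rw [← hrel, Subgroup.relIndex]; exact Subgroup.pow_index_mem _ _
    rw [Subgroup.mem_subgroupOf] at h2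
    push_cast
    rw [QuotientGroup.mk'_apply, ← QuotientGroup.mk_pow, QuotientGroup.eq_one_iff]
    simpa using h2
  have hsame : ∀ g, ∀ a ∈ R g, ∀ b ∈ R g, X a = X b := by
    intro g a ha b hb
    simp only [R, Finset.mem_filter, Finset.mem_univ, true_and] at ha hb
    have hab : a⁻¹ * b ∈ Q := by
      obtain ⟨a', rfl⟩ := QuotientGroup.mk_surjective a
      obtain ⟨b', rfl⟩ := QuotientGroup.mk_surjective b
      refine ⟨a'⁻¹ * b', ?_, by simp⟩
      have h1 : (QuotientGroup.mk a' : G ⧸ M) = QuotientGroup.mk b' := ha.2.trans hb.2.symm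
      exact QuotientGroup.eq.1 h1
    obtain ⟨c, hc, rfl⟩ := exists_conj_regular hp Q hQp ha.1 hb.1 hab
    obtain ⟨m, hm, rfl⟩ := hc
    exact (hXeq a m hm).symm
  have hxsum : ∀ g, x g = ∑ a ∈ R g, X a g := by
    intro g
    have h1 : x = ∑ a : G ⧸ N, X a := by
      rw [hx, ← conv_sum_left, sum_comp]
    rw [h1, Finset.sum_apply]
    exact (Finset.sum_subset (Finset.subset_univ _) fun a _ ha =>
      by_contra fun h => ha (hXsupp g a h)).symm
  have htot : ∑ g, ((R g).card : ℝ) * ∑ a ∈ R g, Complex.normSq (X a g) =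
      ∑ g, ∑ a ∈ R g, Complex.normSq (X a g) := by
    have hdsum : nsq d = ∑ a : G ⧸ N, nsq (cmp a) := by
      simp only [nsq]
      rw [Finset.sum_comm]
      refine Finset.sum_congr rfl fun g _ => ?_
      simp [cmp, apply_ite Complex.normSq]
    have hXsum : ∀ a, nsq (X a) = q⁻¹ * nsq (cmp a) := fun a => by
      have := hXn a
      exact_mod_cast this
    have hxq : nsq x = q⁻¹ * nsq d := by exact_mod_cast hnx
    calc ∑ g, ((R g).card : ℝ) * ∑ a ∈ R g, Complex.normSq (X a g) = nsq x := by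
          refine Finset.sum_congr rfl fun g _ => ?_
          rw [hxsum]
          rcases (R g).eq_empty_or_nonempty with he | ⟨a, ha⟩
          · simp [he]
          · exact (eq_const_of_sq_sum _ _ (X a g) fun b hb => by rw [hsame g b hb a ha]).symm
      _ = ∑ a : G ⧸ N, nsq (X a) := by
          rw [hxq, hdsum, Finset.mul_sum]
          exact Finset.sum_congr rfl fun a _ => (hXsum a).symm
      _ = ∑ g, ∑ a ∈ R g, Complex.normSq (X a g) := by
          simp only [nsq]
          rw [Finset.sum_comm]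
          refine Finset.sum_congr rfl fun g _ => ?_
          exact (Finset.sum_subset (Finset.subset_univ _) fun a _ ha =>
            Complex.normSq_eq_zero.2 (by_contra fun h => ha (hXsupp g a h))).symm
  have hterm : ∀ g, ∀ a ∈ R g, 2 ≤ (R g).card → X a g = 0 := by
    intro g a ha h2
    have hle : ∀ g ∈ (Finset.univ : Finset G), ∑ a ∈ R g, Complex.normSq (X a g) ≤
        ((R g).card : ℝ) * ∑ a ∈ R g, Complex.normSq (X a g) := by
      intro g _
      rcases (R g).eq_empty_or_nonempty with he | hne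
      · simp [he]
      · exact le_mul_of_one_le_left (Finset.sum_nonneg fun a _ => Complex.normSq_nonneg _)
          (by exact_mod_cast hne.card_pos)
    have h := (Finset.sum_eq_sum_iff_of_le hle).1 htot.symm g (Finset.mem_univ g)
    have hs0 : ∑ a ∈ R g, Complex.normSq (X a g) = 0 := by
      have h2' : (2 : ℝ) ≤ ((R g).card : ℝ) := by exact_mod_cast h2
      have hnn : 0 ≤ ∑ a ∈ R g, Complex.normSq (X a g) :=
        Finset.sum_nonneg fun a _ => Complex.normSq_nonneg _
      nlinarith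
    exact Complex.normSq_eq_zero.1
      ((Finset.sum_eq_zero_iff_of_nonneg fun a _ => Complex.normSq_nonneg _).1 hs0 a ha)
  -- conclusion
  by_contra hne
  set a : G ⧸ N := QuotientGroup.mk g₀ with ha
  set b : G ⧸ N := QuotientGroup.mk (u₀ * g₀ * u₀⁻¹) with hb
  have hab : a ≠ b := fun h => hne (QuotientGroup.eq.1 h)
  have hareg : ¬ p ∣ orderOf a := fun h => hg (hdv g₀ ((regular_mk hp N hcop g₀).1 h))
  have hbreg : ¬ p ∣ orderOf b := by
    rw [hb, QuotientGroup.mk_mul, QuotientGroup.mk_mul, QuotientGroup.mk_inv,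
      Blocks.orderOf_conj']
    exact hareg
  have hXa : X a = 0 := by
    funext g
    by_cases haR : a ∈ R g
    · refine hterm g a haR (Finset.one_lt_card.2 ⟨a, haR, b, ?_, hab⟩)
      simp only [R, Finset.mem_filter, Finset.mem_univ, true_and] at haR ⊢
      refine ⟨hbreg, ?_⟩
      rw [← haR.2]
      show (QuotientGroup.mk (u₀ * g₀ * u₀⁻¹) : G ⧸ M) = QuotientGroup.mk g₀
      rw [QuotientGroup.mk_mul, QuotientGroup.mk_mul, QuotientGroup.mk_inv,
        (QuotientGroup.eq_one_iff u₀).2 hu, one_mul, inv_one, mul_one]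
    · exact by_contra fun h => haR (hXsupp g a h)
  have h0 : nsq (cmp a) = 0 := by
    have h1 := hXn a
    rw [hXa] at h1
    have h2 : (0 : ℝ) = q⁻¹ * nsq (cmp a) := by
      have : nsq (0 : G → ℂ) = 0 := by simp [nsq]
      rw [this] at h1
      exact_mod_cast h1
    exact (mul_eq_zero.1 h2.symm).resolve_left (inv_ne_zero hqpos.ne')
  have := eq_zero_of_nsq h0 g₀
  simp [cmp, a] at this
  exact hg this

end Cfsg.Agent.Fg24.Osima
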