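import Mathlib
import Cfsg.Agent.Fg24.Osima.Norm
import Cfsg.Agent.Layer.PConstraint
import Cfsg.Agent.QdFree.SL2Facts
import Cfsg.Agent.Core.PCore

/-!
In a p-solvable group a central idempotent supported on p-regular elements is locally integral.
-/

set_option autoImplicit false

namespace Cfsg.Agent.Fg24.Osima

open scoped ComplexConjugate
open Cfsg.Agent
open Cfsg.Agent.Blocks (conv delta omega)

universe u

variable {p : ℕ} {M : Ideal Cfsg.AlgInt}

/-- Central idempotents of a `p'`-group are locally integral. -/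
theorem mem_of_not_dvd (hM : Cfsg.IsPModular p M) {G : Type u} [Group G] [Fintype G]
    (hp : ¬ p ∣ Nat.card G) {c : G → ℂ} (hc : Cfsg.IsClassFunction G c) (h : conv c c = c) (g : G) :
    Cfsg.MemLocalRing M (c g) := by
  classical
  obtain ⟨B, rfl⟩ := exists_blockCoeff hc h
  rw [Blocks.blockCoeff_eq_sum]
  refine (Blocks.localRing hM).mul_mem (Blocks.memLocalRing_natCast_inv hM hp) ?_
  refine (Blocks.localRing hM).sum_mem fun χ _ => ?_
  split_ifs
  · refine (Blocks.localRing hM).mul_mem (Blocks.memLocalRing_char hM (Char.IsIrr.isCharacter χ.2) 1) ?_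
    rw [← Char.IsChar.inv_eq_conj (Char.IsIrr.isCharacter χ.2)]
    exact Blocks.memLocalRing_char hM (Char.IsIrr.isCharacter χ.2) g⁻¹
  · exact (Blocks.localRing hM).zero_mem

theorem sum_charIdem {G : Type u} [Group G] [Fintype G] (N : Subgroup G) [Fintype N] :
    ∑ θ : Cfsg.IrrCharacter N, charIdem N θ = delta G := by
  classical
  have h : (∑ θ : Cfsg.IrrCharacter N, Cfsg.blockCoeff {θ}) = delta N := by
    refine Blocks.classFun_ext_omega ?_ Blocks.isClassFunction_delta fun χ => ?_
    · intro a b
      simp only [Finset.sum_apply]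
      exact Finset.sum_congr rfl fun θ _ => Blocks.isClassFunction_blockCoeff _ a b
    · rw [Blocks.omega_sum, Blocks.omega_delta (Char.IsIrr.one_ne_zero χ.2),
        Finset.sum_congr rfl fun θ _ => Blocks.omega_blockCoeff {θ} χ]
      simp [Set.mem_singleton_iff]
  show (∑ θ : Cfsg.IrrCharacter N, Cfsg.extendByZero N (Cfsg.blockCoeff {θ})) = _
  rw [← ext_sum, h, ext_delta]

/-- The main induction. -/
theorem mem_localRing (hM : Cfsg.IsPModular p M) : ∀ (n : ℕ) (G : Type u) [Group G] [Fintype G],
    Nat.card G = n → Cfsg.IsPSolvable p G → ∀ c : G → ℂ, Cfsg.IsClassFunction G c → conv c c = c →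
      (∀ g : G, p ∣ orderOf g → c g = 0) → ∀ g, Cfsg.MemLocalRing M (c g) := by
  intro n
  induction n using Nat.strong_induction_on with
  | _ n ih =>
  intro G _ _ hn hsolv c hc hcc hcv g
  classical
  have hp : p.Prime := hM.1
  haveI : Fact p.Prime := ⟨hp⟩
  set N := Cfsg.pPrimeCore p G with hN
  have hcop : (Nat.card N).Coprime p := Core.coprime_card_pPrimeCore
  rw [← conv_delta c, ← sum_charIdem N, conv_sum_right, Finset.sum_apply]
  refine (Blocks.localRing hM).sum_mem fun θ _ => ?_
  set η := charIdem N θ with hη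
  set d := conv c η with hd
  show Cfsg.MemLocalRing M (d g)
  set T := Char.inertia (G := G) (θ : N → ℂ) with hT
  have hNT : N ≤ T := Char.le_inertia (Char.isClassFunction_of_isIrr θ.2)
  have hdd : conv d d = d := by
    rw [hd, conv_assoc, ← conv_assoc η c η, ← conv_comm_of_class hc η, conv_assoc c η η,
      charIdem_conv_self, ← conv_assoc c c η, hcc]
  have hde : conv d η = d := by rw [hd, conv_assoc, charIdem_conv_self]
  have hηT : ∀ t ∈ T, ∀ y, η (t * y * t⁻¹) = η y := by
    intro t ht y
    rw [hη, charIdem]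
    by_cases hy : y ∈ N
    · rw [Char.extendByZero_of_mem _ _ ((inferInstance : N.Normal).conj_mem y hy t),
        Char.extendByZero_of_mem _ _ hy, blockCoeff_singleton, blockCoeff_singleton]
      have h := congrFun (Char.mem_inertia.1 ht) ⟨y, hy⟩
      rw [Char.conjFun_apply] at h
      rw [← h]
    · rw [Char.extendByZero_of_not_mem _ _ hy, Char.extendByZero_of_not_mem]
      intro h
      apply hy
      have := (inferInstance : N.Normal).conj_mem _ h t⁻¹
      simpa [mul_assoc] using this
  have hdT : ∀ t ∈ T, ∀ y, d (t * y * t⁻¹) = d y := by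
    intro t ht y
    rw [hd, conv_apply, conv_apply]
    refine (Fintype.sum_equiv (MulAut.conj t).toEquiv _ _ fun a => ?_).symm
    show c a * η (a⁻¹ * y) = c (t * a * t⁻¹) * η ((t * a * t⁻¹)⁻¹ * (t * y * t⁻¹))
    rw [hc a t, ← hηT t ht (a⁻¹ * y)]
    congr 2
    group
  have hdv : ∀ y, p ∣ orderOf y → d y = 0 := by
    intro y hy
    rw [hd, conv_apply]
    refine Finset.sum_eq_zero fun a _ => ?_
    by_cases ha : a⁻¹ * y ∈ N
    · rw [hcv a, zero_mul]
      rw [← regular_mk hp N hcop, QuotientGroup.eq.2 ha, regular_mk hp N hcop]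
      exact hy
    · rw [hη, charIdem, ext_zero_of_not_mem N _ ha, mul_zero]
  have hd0 : ∀ y, y ∉ T → d y = 0 := by
    intro y hy
    have h1 : d = ∑ x, c x • conv η (conv (dirac x) η) := by
      rw [← hde]
      conv_lhs => rw [hd, conv_comm_of_class hc η, conv_assoc, sum_dirac c, conv_sum_left]
      rw [conv_sum_right]
      exact Finset.sum_congr rfl fun x _ => by rw [conv_smul_left, conv_smul_right]
    rw [h1, Finset.sum_apply]
    refine Finset.sum_eq_zero fun x _ => ?_
    rw [Pi.smul_apply]
    by_cases hx : x ∈ T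
    · have : conv η (conv (dirac x) η) y = 0 := by
        rw [conv_apply]
        refine Finset.sum_eq_zero fun a _ => ?_
        by_cases ha : a ∈ N
        · rw [dirac_conv, hη, charIdem,
            ext_zero_of_not_mem N _ (g := x⁻¹ * (a⁻¹ * y)) fun h => hy ?_, mul_zero]
          have := mul_mem (hNT ha) (mul_mem hx (hNT h))
          simpa [mul_assoc] using this
        · rw [hη, charIdem, ext_zero_of_not_mem N _ ha, zero_mul]
      rw [this, smul_zero]
    · let θ' : Cfsg.IrrCharacter N := ⟨Char.conjFun x⁻¹ (θ : N → ℂ), Char.isIrr_conjFun _ θ.2⟩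
      have hne : θ ≠ θ' := fun h => hx (by
        have := (Subgroup.inv_mem_iff T).1 (Char.mem_inertia.2 (congrArg Subtype.val h).symm)
        exact this)
      have hmove : conv (dirac x) η = conv (charIdem N θ') (dirac x) := by
        funext z
        rw [dirac_conv, conv_dirac, hη, charIdem, charIdem]
        by_cases hz : x⁻¹ * z ∈ N
        · have hz' : z * x⁻¹ ∈ N := by
            have := (inferInstance : N.Normal).conj_mem _ hz x
            simpa [mul_assoc] using this
          rw [Char.extendByZero_of_mem _ _ hz, Char.extendByZero_of_mem _ _ hz', blockCoeff_singleton,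
            blockCoeff_singleton]
          simp only [θ', Char.conjFun_apply]
          have e1 : (⟨x⁻¹ * ((1 : N) : G) * x⁻¹⁻¹, (inferInstance : N.Normal).conj_mem _ (1 : N).2 x⁻¹⟩ : N) = 1 :=
            Subtype.ext (by simp)
          have e2 : (⟨x⁻¹ * (z * x⁻¹) * x⁻¹⁻¹, (inferInstance : N.Normal).conj_mem _ hz' x⁻¹⟩ : N) =
              ⟨x⁻¹ * z, hz⟩ := Subtype.ext (by simp [mul_assoc])
          rw [e1, e2]
        · rw [Char.extendByZero_of_not_mem _ _ hz, Char.extendByZero_of_not_mem]
          intro h
          apply hz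
          have := (inferInstance : N.Normal).conj_mem _ h x⁻¹
          simpa [mul_assoc] using this
      have horth : conv η (charIdem N θ') = 0 := by
        rw [hη, charIdem, charIdem, conv_ext_ext,
          Blocks.blockCoeff_conv_disjoint (Set.disjoint_singleton.2 hne)]
        funext z
        by_cases hz : z ∈ N
        · rw [Char.extendByZero_of_mem _ _ hz]; rfl
        · rw [ext_zero_of_not_mem N _ hz]; rfl
      rw [hmove, ← conv_assoc, horth]
      simp [conv_apply]
  rcases eq_or_ne T ⊤ with hTtop | hTtop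
  · -- invariant: supported in `N`
    have hinv : ∀ a : G, Char.conjFun a (θ : N → ℂ) = (θ : N → ℂ) := fun a =>
      Char.mem_inertia.1 (show a ∈ T by rw [hTtop]; exact Subgroup.mem_top a)
    have hdc : Cfsg.IsClassFunction G d := fun y a => hdT a (by rw [hTtop]; exact Subgroup.mem_top a) y
    set Q := Cfsg.pCore p (G ⧸ N) with hQ
    set L := Q.comap (QuotientGroup.mk' N) with hL
    haveI : L.Normal := (Core.pCore_normal).comap _
    have hNL : N ≤ L := fun y hy => by
      show (QuotientGroup.mk y : G ⧸ N) ∈ Q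
      rw [(QuotientGroup.eq_one_iff y).2 hy]
      exact one_mem _
    obtain ⟨k, hk⟩ := IsPGroup.iff_card.1 (Core.pCore_isPGroup (p := p) (G := G ⧸ N))
    have hrel : N.relIndex L = p ^ k := by
      have h1 := Subgroup.relIndex_comap (f := QuotientGroup.mk' N) (H := ⊥) (K := L)
      rw [MonoidHom.comap_bot, QuotientGroup.ker_mk', Subgroup.relIndex_bot_left, hL,
        Subgroup.map_comap_eq_self_of_surjective (QuotientGroup.mk'_surjective N)] at h1
      rw [hL, h1, hk]
    have hdN : ∀ y, y ∉ N → d y = 0 := by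
      intro y hy
      by_contra hne
      have hsc := Layer.pCoreSelfCentral_of_isPSolvable
        (G := G ⧸ N) (p := p) (Layer.isPSolvable_of_surjective hsolv (f := QuotientGroup.mk' N) (QuotientGroup.mk'_surjective N)) (Core.pPrimeCore_quotient_eq_bot)
      have hymem : (QuotientGroup.mk y : G ⧸ N) ∈ Subgroup.centralizer (Q : Set (G ⧸ N)) := by
        rw [Subgroup.mem_centralizer_iff]
        intro w hw
        obtain ⟨w', rfl⟩ := QuotientGroup.mk_surjective w
        have h := vanish hp N L hNL hcop hrel θ hinv hdc hdd hdv hde hne (u₀ := w') hw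
        rw [← QuotientGroup.eq, QuotientGroup.mk_mul, QuotientGroup.mk_mul, QuotientGroup.mk_inv] at h
        exact (eq_mul_inv_iff_mul_eq.1 h).symm
      obtain ⟨j, hj⟩ := Core.pCore_isPGroup (p := p) (G := G ⧸ N) ⟨_, hsc hymem⟩
      have h1 : (QuotientGroup.mk y : G ⧸ N) ^ p ^ j = 1 := by
        simpa using congrArg Subtype.val hj
      refine hy ((QuotientGroup.eq_one_iff y).1 (orderOf_eq_one_iff.1 ?_))
      obtain ⟨i, -, hi⟩ := (Nat.dvd_prime_pow hp).1 (orderOf_dvd_of_pow_eq_one h1)
      rcases Nat.eq_zero_or_pos i with rfl | hpos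
      · simpa using hi
      · exact absurd (hdv y ((regular_mk hp N hcop y).1 (hi ▸ dvd_pow_self p hpos.ne'))) hne
    by_cases hgN : g ∈ N
    · have h : conv (fun a : N => d a) (fun a : N => d a) = fun a : N => d a :=
        funext fun a => (conv_res N hdN a).trans (congrFun hdd a)
      exact mem_of_not_dvd hM (fun hdvd => hp.one_lt.ne'
        (Nat.eq_one_of_dvd_coprimes hcop hdvd dvd_rfl)) (fun a b => hdc a b) h ⟨g, hgN⟩
    · rw [hdN g hgN]; exact (Blocks.localRing hM).zero_mem
  · -- induction
    by_cases hgT : g ∈ T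
    · have hlt : Nat.card T < n := hn ▸ lt_of_le_of_ne (Subgroup.card_le_card_group T)
        fun e => hTtop (Subgroup.eq_top_of_card_eq T e)
      refine ih _ hlt T rfl (QdFree.isPSolvable_subgroup hsolv T) (fun a : T => d a)
        (fun a b => hdT b b.2 a) (funext fun a => (conv_res T hd0 a).trans (congrFun hdd a))
        (fun a ha => hdv a (by rwa [Subgroup.orderOf_coe])) ⟨g, hgT⟩
    · rw [hd0 g hgT]; exact (Blocks.localRing hM).zero_mem

end Cfsg.Agent.Fg24.Osima
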